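import Cfsg.Agent.H144.War.Boxes

/-!
# S2453 for `PSp_2n(q)`, box J1 (helper557)

* `split` : a hyperbolic pair and its complement;
* `lag` : a nondegenerate subspace of dimension `2 m` is the sum of two totally isotropic ones;
* `jcorner` : **box J1**.
-/

set_option autoImplicit false

namespace Cfsg.Agent.H557.War

open Cfsg.Agent.H144 Cfsg.Agent.H144.War Module

variable {F V : Type*} [Field F] [AddCommGroup V] [Module F V]

theorem mem_span_pair' {e f v : V} (h : v ∈ Submodule.span F ({e, f} : Set V)) : ∃ a b : F, v = a • e + b • f := by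
  obtain ⟨a, b, h⟩ := Submodule.mem_span_pair.1 h
  exact ⟨a, b, h.symm⟩

/-- a hyperbolic pair and its complement -/
theorem split [FiniteDimensional F V] {B : LinearMap.BilinForm F V} (hB : Alt B) {R : Submodule F V} (hR : Nd B R)
    {m : ℕ} (hm : finrank F R = 2 * (m + 1)) :
    ∃ e ∈ R, ∃ f ∈ R, ∃ S ≤ R, B e f = 1 ∧ (∀ v ∈ S, B e v = 0 ∧ B f v = 0) ∧ Nd B S ∧ finrank F S = 2 * m ∧
      Submodule.span F {e, f} ⊔ S = R := by
  have hne : R ≠ ⊥ := by
    rintro rfl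
    rw [finrank_bot] at hm
    omega
  obtain ⟨e, he, he0⟩ := Submodule.exists_mem_ne_zero_of_ne_bot hne
  obtain ⟨w, hw, hw0⟩ : ∃ w ∈ R, B e w ≠ 0 := by
    by_contra h
    push Not at h
    exact he0 (hR e he h)
  set f := (B e w)⁻¹ • w with hf
  have hfR : f ∈ R := R.smul_mem _ hw
  have hef : B e f = 1 := by
    rw [hf, map_smul, smul_eq_mul, inv_mul_cancel₀ hw0]
  have hfe : B f e = -1 := by rw [hB.neg, hef]
  set S : Submodule F V := R ⊓ perp B (Submodule.span F {e, f}) with hS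
  have heS : e ∈ Submodule.span F ({e, f} : Set V) := Submodule.subset_span (by simp)
  have hfS : f ∈ Submodule.span F ({e, f} : Set V) := Submodule.subset_span (by simp)
  have hSv : ∀ v ∈ S, B e v = 0 ∧ B f v = 0 := fun v hv => ⟨hv.2 e heS, hv.2 f hfS⟩
  have hsup : Submodule.span F {e, f} ⊔ S = R := by
    apply le_antisymm
    · refine sup_le (Submodule.span_le.2 ?_) inf_le_left
      rintro x (rfl | rfl)
      · exact he
      · exact hfR
    · intro v hv
      refine Submodule.mem_sup.2 ⟨B v f • e - B v e • f, ?_, v - B v f • e + B v e • f, ⟨?_, ?_⟩, by abel⟩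
      · exact Submodule.sub_mem _ (Submodule.smul_mem _ _ heS) (Submodule.smul_mem _ _ hfS)
      · exact R.add_mem (R.sub_mem hv (R.smul_mem _ he)) (R.smul_mem _ hfR)
      · intro x hx
        obtain ⟨a, b, rfl⟩ := mem_span_pair' hx
        simp only [map_add, map_sub, map_smul, LinearMap.add_apply, LinearMap.smul_apply, smul_eq_mul, hB e, hB f,
          hef, hfe, hB.neg v e, hB.neg v f]
        ring
  have hinf : Submodule.span F {e, f} ⊓ S = ⊥ := by
    rw [eq_bot_iff]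
    rintro v ⟨hv1, hv2⟩
    obtain ⟨a, b, rfl⟩ := mem_span_pair' hv1
    obtain ⟨h1, h2⟩ := hSv _ hv2
    simp only [map_add, map_smul, smul_eq_mul, hB e, hB f, hef, hfe, mul_zero, zero_add, add_zero, mul_one, mul_neg,
      neg_eq_zero] at h1 h2
    rw [h1, h2, zero_smul, zero_smul, add_zero]
    exact Submodule.zero_mem _
  have hli : LinearIndependent F ![e, f] := by
    rw [LinearIndependent.pair_iff]
    intro a b hab
    have h1 := congrArg (B e) hab
    have h2 := congrArg (B f) hab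
    simp only [map_add, map_smul, map_zero, smul_eq_mul, hB e, hB f, hef, hfe, mul_zero, zero_add, add_zero, mul_one,
      mul_neg, neg_eq_zero] at h1 h2
    exact ⟨h2, h1⟩
  have h2 : finrank F (Submodule.span F ({e, f} : Set V)) = 2 := by
    have h3 := finrank_span_eq_card hli
    rw [Fintype.card_fin] at h3
    have h4 : Set.range ![e, f] = {e, f} := Matrix.range_cons_cons_empty e f ![]
    rwa [h4] at h3
  have h3 := Submodule.finrank_sup_add_finrank_inf_eq (Submodule.span F ({e, f} : Set V)) S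
  rw [hsup, hinf, finrank_bot, h2, hm] at h3
  refine ⟨e, he, f, hfR, S, inf_le_left, hef, hSv, ?_, by omega, hsup⟩
  intro v hv hv0
  refine hR v hv.1 fun w hw => ?_
  rw [← hsup] at hw
  obtain ⟨x, hx, y, hy, rfl⟩ := Submodule.mem_sup.1 hw
  obtain ⟨a, b, rfl⟩ := mem_span_pair' hx
  obtain ⟨h4, h5⟩ := hSv v hv
  rw [map_add, hv0 y hy, map_add, map_smul, map_smul, hB.neg v e, hB.neg v f, h4, h5]
  simp

/-- a nondegenerate subspace is the sum of two totally isotropic ones -/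
theorem lag [FiniteDimensional F V] {B : LinearMap.BilinForm F V} (hB : Alt B) {m : ℕ} :
    ∀ {R : Submodule F V}, Nd B R → finrank F R = 2 * m →
      ∃ U Q : Submodule F V, Orth B U U ∧ Orth B Q Q ∧ U ⊔ Q = R ∧ finrank F U = m := by
  induction m with
  | zero =>
    intro R _ h
    have h1 : R = ⊥ := Submodule.finrank_eq_zero.1 (by omega)
    refine ⟨⊥, ⊥, ?_, ?_, by rw [h1, sup_bot_eq], finrank_bot F V⟩ <;>
    · intro x hx y _
      rw [(Submodule.mem_bot F).1 hx, map_zero]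
      rfl
  | succ m ih =>
    intro R hR h
    obtain ⟨e, he, f, hf, S, hS, hef, hSv, hSn, hSf, hsup⟩ := split hB hR h
    obtain ⟨U, Q, hU, hQ, hUQ, hUf⟩ := ih hSn hSf
    have hUS : U ≤ S := hUQ ▸ le_sup_left
    have hQS : Q ≤ S := hUQ ▸ le_sup_right
    refine ⟨Submodule.span F {e} ⊔ U, Submodule.span F {f} ⊔ Q, ?_, ?_, ?_, ?_⟩
    · intro x hx y hy
      obtain ⟨x1, hx1, x2, hx2, rfl⟩ := Submodule.mem_sup.1 hx
      obtain ⟨y1, hy1, y2, hy2, rfl⟩ := Submodule.mem_sup.1 hy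
      obtain ⟨a, rfl⟩ := Submodule.mem_span_singleton.1 hx1
      obtain ⟨b, rfl⟩ := Submodule.mem_span_singleton.1 hy1
      simp only [map_add, map_smul, LinearMap.add_apply, LinearMap.smul_apply, smul_eq_mul, hB e,
        (hSv _ (hUS hy2)).1, hB.neg x2 e, (hSv _ (hUS hx2)).1, hU _ hx2 _ hy2]
      ring
    · intro x hx y hy
      obtain ⟨x1, hx1, x2, hx2, rfl⟩ := Submodule.mem_sup.1 hx
      obtain ⟨y1, hy1, y2, hy2, rfl⟩ := Submodule.mem_sup.1 hy
      obtain ⟨a, rfl⟩ := Submodule.mem_span_singleton.1 hx1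
      obtain ⟨b, rfl⟩ := Submodule.mem_span_singleton.1 hy1
      simp only [map_add, map_smul, LinearMap.add_apply, LinearMap.smul_apply, smul_eq_mul, hB f,
        (hSv _ (hQS hy2)).2, hB.neg x2 f, (hSv _ (hQS hx2)).2, hQ _ hx2 _ hy2]
      ring
    · rw [← hsup, ← hUQ, Submodule.span_insert]
      exact sup_sup_sup_comm _ _ _ _
    · have h1 : Submodule.span F {e} ⊓ U = ⊥ := by
        rw [eq_bot_iff]
        rintro v ⟨hv1, hv2⟩
        obtain ⟨a, rfl⟩ := Submodule.mem_span_singleton.1 hv1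
        have h2 := (hSv _ (hUS hv2)).2
        rw [map_smul, hB.neg, hef, smul_eq_mul, mul_neg, mul_one, neg_eq_zero] at h2
        rw [h2, zero_smul]
        exact Submodule.zero_mem _
      have he0 : e ≠ 0 := by
        rintro rfl
        rw [map_zero] at hef
        exact zero_ne_one hef
      have h3 := Submodule.finrank_sup_add_finrank_inf_eq (Submodule.span F ({e} : Set V)) U
      rw [h1, finrank_bot, finrank_span_singleton he0, hUf] at h3
      omega

/-- **box J1** -/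
theorem jcorner : JCorner := by
  intro F V _ _ _ _ h2 B hB hN g hg R' R₁ s hs hR' hR₁ hO htop h1 hm1
  have hNd' : Nd B R' := by
    intro v hv hv0
    refine hN v fun w => ?_
    have hw : w ∈ R' ⊔ R₁ := by rw [htop]; exact Submodule.mem_top
    obtain ⟨a, ha, b, hb, rfl⟩ := Submodule.mem_sup.1 hw
    rw [map_add, hv0 a ha, hO v hv b hb, add_zero]
  have hNd₁ : Nd B R₁ := by
    intro v hv hv0
    refine hN v fun w => ?_
    have hw : w ∈ R' ⊔ R₁ := by rw [htop]; exact Submodule.mem_top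
    obtain ⟨a, ha, b, hb, rfl⟩ := Submodule.mem_sup.1 hw
    rw [map_add, hv0 b hb, hB.neg, hO a ha v hv, neg_zero, add_zero]
  obtain ⟨e₁, he₁, f₁, hf₁, S, hS, hef₁, hSv, hSn, hSf, hsup⟩ := split hB hNd' (m := s - 2) (by omega)
  obtain ⟨e₂, he₂, f₂, hf₂, S₁, hS₁, hef₂, -, -, hS₁f, hsup₁⟩ := split hB hNd₁ (m := 0) (by omega)
  have hS₁b : S₁ = ⊥ := Submodule.finrank_eq_zero.1 (by omega)
  rw [hS₁b, sup_bot_eq] at hsup₁
  obtain ⟨U, Q, hU, hQ, hUQ, hUf⟩ := lag hB hSn hSf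
  have hUS : U ≤ S := hUQ ▸ le_sup_left
  have hQS : Q ≤ S := hUQ ▸ le_sup_right
  have k1 : B f₁ e₁ = -1 := by rw [hB.neg, hef₁]
  have k2 : B f₂ e₂ = -1 := by rw [hB.neg, hef₂]
  have k3 : ∀ x ∈ R', ∀ y ∈ R₁, B y x = 0 := fun x hx y hy => by rw [hB.neg, hO x hx y hy, neg_zero]
  have hSx : ∀ v ∈ S, B v e₁ = 0 ∧ B v f₁ = 0 ∧ B v e₂ = 0 ∧ B v f₂ = 0 ∧ B e₁ v = 0 ∧ B f₁ v = 0 ∧ B e₂ v = 0 ∧
      B f₂ v = 0 := fun v hv =>
    ⟨by rw [hB.neg, (hSv v hv).1, neg_zero], by rw [hB.neg, (hSv v hv).2, neg_zero], hO v (hS hv) _ he₂,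
      hO v (hS hv) _ hf₂, (hSv v hv).1, (hSv v hv).2, k3 v (hS hv) _ he₂, k3 v (hS hv) _ hf₂⟩
  have hgp : g (e₁ + e₂) = e₁ - e₂ := by rw [map_add, h1 _ he₁, hm1 _ he₂]; abel
  have hgq : g (f₁ - f₂) = f₁ + f₂ := by rw [map_sub, h1 _ hf₁, hm1 _ hf₂]; abel
  refine ⟨U ⊔ Submodule.span F {e₁ + e₂, f₁ - f₂}, Q ⊔ Submodule.span F {e₁ - e₂ - (f₁ - f₂), f₁ + f₂ + (e₁ + e₂)},
    U, e₁ + e₂, ?_, f₁ - f₂, ?_, ?_, ?_, ?_, le_sup_left, hUf, rfl, ?_, ?_, ?_⟩
  · exact Submodule.mem_sup_right (Submodule.subset_span (by simp))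
  · exact Submodule.mem_sup_right (Submodule.subset_span (by simp))
  · intro x hx y hy
    obtain ⟨x1, hx1, x2, hx2, rfl⟩ := Submodule.mem_sup.1 hx
    obtain ⟨y1, hy1, y2, hy2, rfl⟩ := Submodule.mem_sup.1 hy
    obtain ⟨a, b, rfl⟩ := mem_span_pair' hx2
    obtain ⟨c, d, rfl⟩ := mem_span_pair' hy2
    obtain ⟨u1, u2, u3, u4, u5, u6, u7, u8⟩ := hSx _ (hUS hx1)
    obtain ⟨v1, v2, v3, v4, v5, v6, v7, v8⟩ := hSx _ (hUS hy1)
    simp only [map_add, map_sub, map_smul, LinearMap.add_apply, LinearMap.sub_apply, LinearMap.smul_apply, smul_eq_mul,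
      hB e₁, hB e₂, hB f₁, hB f₂, hef₁, hef₂, k1, k2, hO _ he₁ _ he₂, hO _ he₁ _ hf₂, hO _ hf₁ _ he₂, hO _ hf₁ _ hf₂,
      k3 _ he₁ _ he₂, k3 _ he₁ _ hf₂, k3 _ hf₁ _ he₂, k3 _ hf₁ _ hf₂, u1, u2, u3, u4, v5, v6, v7, v8, hU _ hx1 _ hy1]
    ring
  · intro x hx y hy
    obtain ⟨x1, hx1, x2, hx2, rfl⟩ := Submodule.mem_sup.1 hx
    obtain ⟨y1, hy1, y2, hy2, rfl⟩ := Submodule.mem_sup.1 hy
    obtain ⟨a, b, rfl⟩ := mem_span_pair' hx2
    obtain ⟨c, d, rfl⟩ := mem_span_pair' hy2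
    obtain ⟨u1, u2, u3, u4, u5, u6, u7, u8⟩ := hSx _ (hQS hx1)
    obtain ⟨v1, v2, v3, v4, v5, v6, v7, v8⟩ := hSx _ (hQS hy1)
    simp only [map_add, map_sub, map_smul, LinearMap.add_apply, LinearMap.sub_apply, LinearMap.smul_apply, smul_eq_mul,
      hB e₁, hB e₂, hB f₁, hB f₂, hef₁, hef₂, k1, k2, hO _ he₁ _ he₂, hO _ he₁ _ hf₂, hO _ hf₁ _ he₂, hO _ hf₁ _ hf₂,
      k3 _ he₁ _ he₂, k3 _ he₁ _ hf₂, k3 _ hf₁ _ he₂, k3 _ hf₁ _ hf₂, u1, u2, u3, u4, v5, v6, v7, v8, hQ _ hx1 _ hy1]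
    ring
  · set P := U ⊔ Submodule.span F {e₁ + e₂, f₁ - f₂} with hP
    set Q' := Q ⊔ Submodule.span F {e₁ - e₂ - (f₁ - f₂), f₁ + f₂ + (e₁ + e₂)} with hQ'
    have m1 : e₁ + e₂ ∈ P ⊔ Q' := Submodule.mem_sup_left (Submodule.mem_sup_right (Submodule.subset_span (by simp)))
    have m2 : f₁ - f₂ ∈ P ⊔ Q' := Submodule.mem_sup_left (Submodule.mem_sup_right (Submodule.subset_span (by simp)))
    have m3 : e₁ - e₂ - (f₁ - f₂) ∈ P ⊔ Q' :=
      Submodule.mem_sup_right (Submodule.mem_sup_right (Submodule.subset_span (by simp)))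
    have m4 : f₁ + f₂ + (e₁ + e₂) ∈ P ⊔ Q' :=
      Submodule.mem_sup_right (Submodule.mem_sup_right (Submodule.subset_span (by simp)))
    have m5 : e₁ - e₂ ∈ P ⊔ Q' := by
      have := Submodule.add_mem _ m3 m2
      rwa [sub_add_cancel] at this
    have m6 : f₁ + f₂ ∈ P ⊔ Q' := by
      have := Submodule.sub_mem _ m4 m1
      rwa [add_sub_cancel_right] at this
    have half : ∀ a b c : V, a + b = (2 : F) • c → a ∈ P ⊔ Q' → b ∈ P ⊔ Q' → c ∈ P ⊔ Q' := by
      intro a b c e ha hb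
      have := Submodule.smul_mem (P ⊔ Q') (2 : F)⁻¹ (Submodule.add_mem _ ha hb)
      rwa [e, smul_smul, inv_mul_cancel₀ h2, one_smul] at this
    have n1 : e₁ ∈ P ⊔ Q' := half _ _ _ (by rw [two_smul]; abel) m1 m5
    have n2 : f₁ ∈ P ⊔ Q' := half _ _ _ (by rw [two_smul]; abel) m2 m6
    have n3 : e₂ ∈ P ⊔ Q' := by
      have := Submodule.sub_mem _ m1 n1
      rwa [add_sub_cancel_left] at this
    have n4 : f₂ ∈ P ⊔ Q' := by
      have := Submodule.sub_mem _ m6 n2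
      rwa [add_sub_cancel_left] at this
    rw [eq_top_iff, ← htop, ← hsup, ← hsup₁, ← hUQ]
    refine sup_le (sup_le (Submodule.span_le.2 ?_) (sup_le (le_sup_left.trans le_sup_left)
      (le_sup_left.trans le_sup_right))) (Submodule.span_le.2 ?_)
    · rintro x (rfl | rfl)
      · exact n1
      · exact n2
    · rintro x (rfl | rfl)
      · exact n3
      · exact n4
  · intro v hv
    rw [h1 v (hS (hUS hv)), sub_self]
    exact Submodule.zero_mem _
  · rw [hgp]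
    exact Submodule.mem_sup_right (Submodule.subset_span (by simp))
  · rw [hgq]
    exact Submodule.mem_sup_right (Submodule.subset_span (by simp))

end Cfsg.Agent.H557.War
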